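import Groth.Agent.ProjGamma.Extend
import Groth.Agent.ProjTwist.QCoh
import Groth.Agent.GrBasics.Core
import Mathlib.AlgebraicGeometry.ProjectiveSpectrum.Functor
import Mathlib.AlgebraicGeometry.Morphisms.ClosedImmersion

/-!
# The morphism of `Proj` induced by a surjection of graded rings
-/

set_option autoImplicit false
universe u
open CategoryTheory AlgebraicGeometry Opposite TopologicalSpace DirectSum Graded

namespace Groth.Agent.ProjQuot

open Groth.Agent.ProjGamma

set_option synthInstance.maxHeartbeats 400000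
set_option maxHeartbeats 1600000

variable {R A B S : Type u} [CommRing R] [CommRing S] [CommRing A] [Algebra R A] {𝒜 : ℕ → Submodule R A}
  [GradedAlgebra 𝒜] [CommRing B] [Algebra S B] {ℬ : ℕ → Submodule S B} [GradedAlgebra ℬ] (φ : 𝒜 →+*ᵍ ℬ)

/-- Homogeneous elements lift to homogeneous elements. -/
theorem exists_mem_of_surjective (hsurj : Function.Surjective φ) {n : ℕ} {b : B} (hb : b ∈ ℬ n) :
    ∃ a ∈ 𝒜 n, φ a = b := by
  classical
  obtain ⟨a, rfl⟩ := hsurj b
  refine ⟨decompose 𝒜 a n, SetLike.coe_mem _, ?_⟩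
  rw [← DirectSum.decompose_of_mem_same ℬ hb]
  conv_rhs => rw [← DirectSum.sum_support_decompose 𝒜 a, map_sum, decompose_sum, DFinsupp.finsetSum_apply,
    AddSubmonoidClass.coe_finsetSum]
  rw [Finset.sum_eq_single n]
  · exact (DirectSum.decompose_of_mem_same ℬ (map_mem φ (SetLike.coe_mem _))).symm
  · exact fun j _ hj => DirectSum.decompose_of_mem_ne ℬ (map_mem φ (SetLike.coe_mem _)) hj
  · intro h
    rw [DFinsupp.notMem_support_iff.mp h]
    simp

theorem irrelevant_le_map (hsurj : Function.Surjective φ) :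
    HomogeneousIdeal.irrelevant ℬ ≤ (HomogeneousIdeal.irrelevant 𝒜).map φ := by
  show (HomogeneousIdeal.irrelevant ℬ).toIdeal ≤ ((HomogeneousIdeal.irrelevant 𝒜).map φ).toIdeal
  refine (HomogeneousIdeal.toIdeal_irrelevant_le _).mpr fun n hn b hb => ?_
  obtain ⟨a, ha, rfl⟩ := exists_mem_of_surjective φ hsurj hb
  exact Ideal.mem_map_of_mem _ (HomogeneousIdeal.mem_irrelevant_of_mem 𝒜 hn ha)

variable (hφ : HomogeneousIdeal.irrelevant ℬ ≤ (HomogeneousIdeal.irrelevant 𝒜).map φ)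

theorem rval_map_app {W : (Proj 𝒜).Opens} (s : Γ(Proj 𝒜, W)) (y : ProjectiveSpectrum ℬ)
    (hy : y ∈ Proj.map φ hφ ⁻¹ᵁ W) {a : A}
    {t : (ProjectiveSpectrum.comap φ hφ y).asHomogeneousIdeal.toIdeal.primeCompl}
    (hs : rval s (ProjectiveSpectrum.comap φ hφ y) hy = Localization.mk a t) :
    rval ((Proj.map φ hφ).app W s) y hy = Localization.mk (φ a) ⟨φ t.1, t.2⟩ := by
  have h : rval ((Proj.map φ hφ).app W s) y hy = Localization.localRingHom _ y.asHomogeneousIdeal.toIdeal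
      φ.toRingHom rfl (rval s (ProjectiveSpectrum.comap φ hφ y) hy) :=
    HomogeneousLocalization.val_localRingHom _
  rw [h, hs]
  exact Localization.localRingHom_mk _ _ _ _ _ _

theorem rval_map_app_regFrac {W : (Proj 𝒜).Opens} {j : ℕ} (a t : A) (ha : a ∈ 𝒜 j) (ht : t ∈ 𝒜 j)
    (hn : ∀ x : W, t ∉ x.1.asHomogeneousIdeal) (y : ProjectiveSpectrum ℬ) (hy : y ∈ Proj.map φ hφ ⁻¹ᵁ W) :
    rval ((Proj.map φ hφ).app W (regFrac W a t ha ht hn)) y hy =
      Localization.mk (φ a) ⟨φ t, hn ⟨ProjectiveSpectrum.comap φ hφ y, hy⟩⟩ :=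
  rval_map_app φ hφ _ y hy (rval_regFrac W a t ha ht hn _ hy)

/-- Regular functions on a basic open lift when positive-degree elements lift. -/
theorem map_app_surjective' (hlift : ∀ n, 0 < n → ∀ b ∈ ℬ n, ∃ a ∈ 𝒜 n, φ a = b) {d : ℕ} (hd : 0 < d) {g : A}
    (hg : g ∈ 𝒜 d) : Function.Surjective ((Proj.map φ hφ).app (Proj.basicOpen 𝒜 g)) := by
  intro c
  obtain ⟨k, b, hb, -, hc⟩ := ProjTwist.exists_frac_regular ℬ hd (map_mem φ hg) c
  obtain ⟨a, ha, hab⟩ := hlift ((k + 1) * d) (by positivity) (b * φ g)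
    (by rw [Nat.succ_mul]; exact SetLike.mul_mem_graded hb (map_mem φ hg))
  refine ⟨regFrac _ a (g ^ (k + 1)) ha (by simpa [smul_eq_mul] using SetLike.pow_mem_graded (k + 1) hg)
    fun x => notMem_pow x.2 (k + 1), reg_ext fun y hy => ?_⟩
  rw [rval_map_app_regFrac]
  refine Eq.trans ?_ (hc y hy).symm
  rw [Localization.mk_eq_mk_iff, Localization.r_iff_exists]
  exact ⟨1, by simp only [hab, map_pow, OneMemClass.coe_one]; ring⟩

/-- Regular functions on a basic open lift along a surjection. -/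
theorem map_app_surjective (hsurj : Function.Surjective φ) {d : ℕ} (hd : 0 < d) {g : A} (hg : g ∈ 𝒜 d) :
    Function.Surjective ((Proj.map φ hφ).app (Proj.basicOpen 𝒜 g)) :=
  map_app_surjective' φ hφ (fun _ _ _ hb => exists_mem_of_surjective φ hsurj hb) hd hg

/-- If positive-degree elements lift, the induced morphism is a closed immersion. -/
theorem isClosedImmersion_map' (hlift : ∀ n, 0 < n → ∀ b ∈ ℬ n, ∃ a ∈ 𝒜 n, φ a = b) :
    IsClosedImmersion (Proj.map φ hφ) := by
  let ι := Σ' (d : ℕ) (g : A), 0 < d ∧ g ∈ 𝒜 d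
  have hU : ⨆ i : ι, Proj.basicOpen 𝒜 i.2.1 = ⊤ := by
    refine Proj.iSup_basicOpen_eq_top 𝒜 _ ((HomogeneousIdeal.toIdeal_irrelevant_le _).mpr fun n hn x hx => ?_)
    exact Ideal.subset_span ⟨⟨n, x, hn, hx⟩, rfl⟩
  rw [IsZariskiLocalAtTarget.iff_of_iSup_eq_top (P := @IsClosedImmersion) (fun i : ι => Proj.basicOpen 𝒜 i.2.1) hU]
  rintro ⟨d, g, hd, hg⟩
  have : IsAffine (Proj.basicOpen 𝒜 g) := Proj.isAffineOpen_basicOpen 𝒜 g hg hd
  have hpre : IsAffineOpen (Proj.map φ hφ ⁻¹ᵁ Proj.basicOpen 𝒜 g) :=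
    Proj.isAffineOpen_basicOpen ℬ (φ g) (map_mem φ hg) hd
  have : IsAffine (Proj.map φ hφ ⁻¹ᵁ Proj.basicOpen 𝒜 g) := hpre
  refine IsClosedImmersion.of_surjective_of_isAffine _ ?_
  rw [morphismRestrict_appTop]
  have h := map_app_surjective' φ hφ hlift hd hg
  rw [← (Proj.basicOpen 𝒜 g).ι_image_top] at h
  intro c
  obtain ⟨c', hc'⟩ := (ConcreteCategory.bijective_of_isIso ((Proj ℬ).presheaf.map
    (eqToHom (image_morphismRestrict_preimage (Proj.map φ hφ) (Proj.basicOpen 𝒜 g) ⊤)).op)).2 c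
  obtain ⟨b, hb⟩ := h c'
  exact ⟨b, (congrArg _ hb).trans hc'⟩

/-- A surjection of graded rings gives a closed immersion. -/
theorem isClosedImmersion_map (hsurj : Function.Surjective φ) : IsClosedImmersion (Proj.map φ hφ) :=
  isClosedImmersion_map' φ hφ fun _ _ _ hb => exists_mem_of_surjective φ hsurj hb

/-- A fraction vanishes on `Proj ℬ` iff a multiple of its numerator is killed by `φ`. -/
theorem map_app_regFrac_eq_zero_iff {d : ℕ} (hd : 0 < d) {g : A} (hg : g ∈ 𝒜 d) {k : ℕ} (a : A)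
    (ha : a ∈ 𝒜 (k * d)) (hgk : g ^ k ∈ 𝒜 (k * d)) :
    (Proj.map φ hφ).app (Proj.basicOpen 𝒜 g) (regFrac _ a (g ^ k) ha hgk fun x => notMem_pow x.2 k) = 0 ↔
      ∃ N, φ (g ^ N * a) = 0 := by
  constructor
  · intro h
    by_contra hc
    push Not at hc
    let J : Ideal B := (⊥ : Ideal B).colon (Set.singleton (φ a))
    have hJmem : ∀ u : B, u ∈ J ↔ u * φ a = 0 := fun u => by
      rw [Submodule.mem_colon]
      exact ⟨fun h => by simpa using h (φ a) rfl, fun h p hp => by obtain rfl : p = φ a := hp; simpa using h⟩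
    have hJ : J.IsHomogeneous ℬ := by
      intro i u hu
      rw [hJmem] at hu ⊢
      have := DirectSum.coe_decompose_mul_add_of_right_mem ℬ (map_mem φ ha) (a := u) (i := i)
      rw [hu] at this
      simpa using this.symm
    have hgJ : φ g ∉ J.radical := by
      rintro ⟨N, hN⟩
      rw [hJmem] at hN
      exact hc N (by rw [map_mul, map_pow, hN])
    obtain ⟨y, hJy, hgy⟩ := GrBasics.exists_point_of_notMem_radical ℬ hJ hd (map_mem φ hg) hgJ
    have h0 := rval_map_app_regFrac φ hφ a (g ^ k) ha hgk (W := Proj.basicOpen 𝒜 g)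
      (fun x => notMem_pow x.2 k) y hgy
    rw [h] at h0
    have h1 : (0 : Twist.Loc ℬ y) = Localization.mk (φ a) ⟨φ (g ^ k), _⟩ :=
      HomogeneousLocalization.val_zero.symm.trans h0
    rw [← Localization.mk_zero 1, Localization.mk_eq_mk_iff, Localization.r_iff_exists] at h1
    obtain ⟨u, hu⟩ := h1
    refine u.2 (hJy ((hJmem _).mpr ?_))
    simpa using hu.symm
  · rintro ⟨N, hN⟩
    refine reg_ext fun y hy => (rval_map_app_regFrac φ hφ a (g ^ k) ha hgk _ y hy).trans ?_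
    refine Eq.trans ?_ HomogeneousLocalization.val_zero.symm
    rw [← Localization.mk_zero 1, Localization.mk_eq_mk_iff, Localization.r_iff_exists]
    refine ⟨⟨φ g ^ N, notMem_pow (show φ g ∉ y.asHomogeneousIdeal from hy) N⟩, ?_⟩
    simpa [map_mul, map_pow] using hN

end Groth.Agent.ProjQuot
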