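import Groth.Agent.ProjQuot.Map
import Groth.Agent.ProjTwist.Stalk
import Mathlib.AlgebraicGeometry.Properties

/-!
# Image of `Proj` of a surjection, reducedness of `Proj`
-/

set_option autoImplicit false
universe u
open CategoryTheory AlgebraicGeometry Opposite TopologicalSpace DirectSum Graded

namespace Groth.Agent.ProjQuot

open Groth.Agent.ProjGamma

set_option synthInstance.maxHeartbeats 400000

variable {R A B : Type u} [CommRing R] [CommRing A] [Algebra R A] {𝒜 : ℕ → Submodule R A} [GradedAlgebra 𝒜]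
  [CommRing B] [Algebra R B] {ℬ : ℕ → Submodule R B} [GradedAlgebra ℬ] (φ : 𝒜 →+*ᵍ ℬ)

/-- A point containing the kernel of a surjection is in the image. -/
theorem exists_map_eq (hsurj : Function.Surjective φ)
    (hφ : HomogeneousIdeal.irrelevant ℬ ≤ (HomogeneousIdeal.irrelevant 𝒜).map φ)
    (x : ProjectiveSpectrum 𝒜) (hx : ∀ a : A, φ a = 0 → a ∈ x.asHomogeneousIdeal) :
    ∃ y : ProjectiveSpectrum ℬ, (Proj.map φ hφ).base y = x := by
  have hker : RingHom.ker (φ : A →+* B) ≤ x.asHomogeneousIdeal.toIdeal := fun a ha => hx a ha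
  have hcm : ((x.asHomogeneousIdeal.map φ).comap φ).toIdeal = x.asHomogeneousIdeal.toIdeal := by
    show Ideal.comap (φ : A →+* B) (Ideal.map (φ : A →+* B) x.asHomogeneousIdeal.toIdeal) = _
    exact (Ideal.comap_map_of_surjective (φ : A →+* B) hsurj _).trans (sup_eq_left.mpr hker)
  let y : ProjectiveSpectrum ℬ :=
    ⟨x.asHomogeneousIdeal.map φ, Ideal.map_isPrime_of_surjective hsurj hker, fun hle => by
      refine x.not_irrelevant_le ?_
      show (HomogeneousIdeal.irrelevant 𝒜).toIdeal ≤ x.asHomogeneousIdeal.toIdeal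
      rw [← hcm]
      refine (HomogeneousIdeal.toIdeal_irrelevant_le _).mpr fun n hn a ha => ?_
      exact hle (HomogeneousIdeal.mem_irrelevant_of_mem ℬ hn (map_mem φ ha))⟩
  exact ⟨y, ProjectiveSpectrum.ext (HomogeneousIdeal.ext hcm)⟩

/-- If the irrelevant ideal has no nilpotents, `Proj` is reduced. -/
theorem isReduced_proj (h : ∀ a ∈ (HomogeneousIdeal.irrelevant 𝒜).toIdeal, IsNilpotent a → a = 0) :
    AlgebraicGeometry.IsReduced (Proj 𝒜) := by
  refine ⟨fun W => ⟨fun c hc => ?_⟩⟩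
  obtain ⟨k, hk⟩ := hc
  refine reg_ext fun x hx => Eq.trans ?_ HomogeneousLocalization.val_zero.symm
  obtain ⟨a, t, hat⟩ : ∃ a t, rval c x hx = Localization.mk a t :=
    ⟨_, _, (Localization.mkHom_surjective (rval c x hx)).choose_spec.symm⟩
  have h0 : rval c x hx ^ k = 0 := by
    rw [← rval_pow, hk]
    exact HomogeneousLocalization.val_zero
  rw [hat] at h0 ⊢
  rw [Localization.mk_pow, ← Localization.mk_zero 1, Localization.mk_eq_mk_iff, Localization.r_iff_exists] at h0
  obtain ⟨v, hv⟩ := h0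
  simp only [OneMemClass.coe_one, one_mul, mul_zero] at hv
  obtain ⟨f, hfp, hfx⟩ := SetLike.not_le_iff_exists.mp x.not_irrelevant_le
  have hz : v.1 * f * a = 0 := by
    refine h _ (Ideal.mul_mem_right _ _ (Ideal.mul_mem_left _ _ hfp)) ⟨k + 1, ?_⟩
    calc (v.1 * f * a) ^ (k + 1) = v.1 ^ k * f ^ (k + 1) * a * (v.1 * a ^ k) := by ring
      _ = 0 := by rw [hv, mul_zero]
  rw [← Localization.mk_zero 1, Localization.mk_eq_mk_iff, Localization.r_iff_exists]
  exact ⟨v * ⟨f, hfx⟩, by simpa [mul_assoc] using hz⟩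

/-- Points of `Proj` avoiding a non-nilpotent homogeneous element. -/
theorem exists_point_of_not_isNilpotent {f : A} {d : ℕ} (hd : 0 < d) (hf : f ∈ 𝒜 d) (h : ¬IsNilpotent f) :
    ∃ x : ProjectiveSpectrum 𝒜, f ∉ x.asHomogeneousIdeal := by
  obtain ⟨x, -, hx⟩ := GrBasics.exists_point_of_notMem_radical 𝒜 (Ideal.IsHomogeneous.bot 𝒜) hd hf
    (fun ⟨n, hn⟩ => h ⟨n, hn⟩)
  exact ⟨x, hx⟩

end Groth.Agent.ProjQuot
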