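import Groth.Agent.ProjQuot.Map
import Groth.Agent.ProjGamma.Amb
import Groth.Prelude.Def_GrQuot

/-!
# Closed subschemes of `Proj` are `Proj` of graded quotients
-/

set_option autoImplicit false
universe u
open CategoryTheory AlgebraicGeometry Opposite TopologicalSpace DirectSum Polynomial

namespace Groth.Agent.ProjQuot

open Groth.Agent.ProjGamma

set_option synthInstance.maxHeartbeats 400000
set_option maxHeartbeats 1600000

variable {R A : Type u} [CommRing R] [CommRing A] [Algebra R A] {𝒜 : ℕ → Submodule R A} [GradedAlgebra 𝒜]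
variable (C : Cover 𝒜) {Z : Scheme.{u}} (i : Z ⟶ Proj 𝒜)

/-- The elements all of whose fractions vanish on `Z`. -/
noncomputable def vanishIdeal : Ideal A :=
  ⨅ g : C.gens, RingHom.ker ((Polynomial.mapRingHom (i.app (U C g)).hom).comp (theta C g))

theorem mem_vanishIdeal {a : A} :
    a ∈ vanishIdeal C i ↔ ∀ (g : C.gens) (n : ℕ), i.app (U C g) (frac C g n (decompose 𝒜 a n)) = 0 := by
  classical
  have key : ∀ (g : C.gens) (n : ℕ),
      (theta C g a).coeff n = frac C g n (decompose 𝒜 a n) := by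
    intro g n
    conv_lhs => rw [← DirectSum.sum_support_decompose 𝒜 a, map_sum]
    simp only [theta_of_mem, finset_sum_coeff, coeff_monomial]
    rw [Finset.sum_ite_eq', ite_eq_left_iff]
    intro h
    rw [DFinsupp.notMem_support_iff.mp h, map_zero]
  simp only [vanishIdeal, Submodule.mem_iInf, RingHom.mem_ker, RingHom.comp_apply, Polynomial.ext_iff,
    Polynomial.coe_mapRingHom, coeff_map, coeff_zero, key]

theorem mem_vanishIdeal_of_mem {n : ℕ} {a : A} (ha : a ∈ 𝒜 n) :
    a ∈ vanishIdeal C i ↔ ∀ g : C.gens, i.app (U C g) (frac C g n ⟨a, ha⟩) = 0 := by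
  have he : decompose 𝒜 a = DirectSum.of (fun n => 𝒜 n) n ⟨a, ha⟩ := decompose_of_mem 𝒜 ha
  rw [mem_vanishIdeal]
  constructor
  · intro h g
    simpa [he] using h g n
  · intro h g m
    by_cases hm : m = n
    · subst hm; simpa [he] using h g
    · rw [he, DirectSum.of_eq_of_ne _ _ _ hm, map_zero, map_zero]

instance isHomog_vanishIdeal : GrQuot.IsHomog 𝒜 (vanishIdeal C i) :=
  ⟨fun n a ha => (mem_vanishIdeal_of_mem C i (SetLike.coe_mem _)).mpr fun g =>
    (mem_vanishIdeal C i).mp ha g n⟩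

/-- The quotient map. -/
noncomputable def quotHom (J : Ideal A) [GrQuot.IsHomog 𝒜 J] : 𝒜 →+*ᵍ GrQuot.quot 𝒜 J :=
  { toRingHom := Ideal.Quotient.mk J
    map_mem := fun h => GrQuot.mk_mem_quot 𝒜 J h }

theorem quotHom_surjective (J : Ideal A) [GrQuot.IsHomog 𝒜 J] : Function.Surjective (quotHom (𝒜 := 𝒜) J) :=
  Ideal.Quotient.mk_surjective

variable [IsClosedImmersion i]

theorem exists_pow_mul_mem_of_app_eq_zero (g : C.gens) {n : ℕ} (a : 𝒜 n)
    (h : i.app (U C g) (frac C g n a) = 0) :
    ∃ N, (g : A) ^ N * a.1 ∈ vanishIdeal C i := by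
  classical
  let g₁ : 𝒜 1 := ⟨g, C.deg_one g g.2⟩
  have key : ∀ g' : C.gens, ∃ L, i.app (U C g') (frac C g' 1 g₁) ^ L * i.app (U C g') (frac C g' n a) = 0 := by
    intro g'
    have haff : IsAffineOpen (i ⁻¹ᵁ U C g') := (isAffineOpen_U g').preimage i
    let f := i.app (U C g') (frac C g' 1 g₁)
    let hloc := haff.isLocalization_basicOpen f
    have hbo : Z.basicOpen f = i ⁻¹ᵁ (U C g ⊓ U C g') := by
      show Z.basicOpen (i.app (U C g') (frac C g' 1 g₁)) = _
      rw [← Scheme.preimage_basicOpen, basicOpen_frac, inf_comm]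
    have hzero : Z.presheaf.map (homOfLE (Z.basicOpen_le f)).op (i.app (U C g') (frac C g' n a)) = 0 := by
      have e1 : (Proj 𝒜).presheaf.map (homOfLE (inf_le_right : U C g ⊓ U C g' ≤ U C g')).op (frac C g' n a) =
          rho g g' n * (Proj 𝒜).presheaf.map (homOfLE (inf_le_left : U C g ⊓ U C g' ≤ U C g)).op (frac C g n a) := by
        refine reg_ext fun x hx => ?_
        rw [rval_mul, rval_res, rval_res, rval_frac, rval_frac, rval_rho]
        rw [Localization.mk_mul, Localization.mk_eq_mk_iff, Localization.r_iff_exists]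
        exact ⟨1, by simp only [Submonoid.coe_mul, OneMemClass.coe_one]; ring⟩
      have e2 : i.app (U C g ⊓ U C g')
          ((Proj 𝒜).presheaf.map (homOfLE (inf_le_left : U C g ⊓ U C g' ≤ U C g)).op (frac C g n a)) = 0 := by
        rw [← ConcreteCategory.comp_apply, i.naturality, ConcreteCategory.comp_apply, h, map_zero]
      have e3 := congrArg (i.app (U C g ⊓ U C g')) e1
      rw [map_mul, e2, mul_zero, ← ConcreteCategory.comp_apply, i.naturality, ConcreteCategory.comp_apply] at e3
      have e4 := congrArg (Z.presheaf.map (homOfLE hbo.le).op) e3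
      rw [map_zero, ← ConcreteCategory.comp_apply, ← Functor.map_comp] at e4
      exact e4
    obtain ⟨⟨_, L, rfl⟩, hL⟩ := (IsLocalization.map_eq_zero_iff (Submonoid.powers f) _ _).mp hzero
    exact ⟨L, hL⟩
  choose L hL using key
  let N := Finset.univ.sup L
  have hmem : (g : A) ^ N * a.1 ∈ 𝒜 (N + n) := SetLike.mul_mem_graded (pow_mem_deg g₁.2 N) a.2
  refine ⟨N, (mem_vanishIdeal_of_mem C i hmem).mpr fun g' => ?_⟩
  have hf : frac C g' (N + n) ⟨_, hmem⟩ = frac C g' 1 g₁ ^ N * frac C g' n a := by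
    refine reg_ext fun x hx => ?_
    simp only [rval_mul, rval_pow, rval_frac, Localization.mk_pow, Localization.mk_mul]
    congr 1
    exact Subtype.ext (show (g' : A) ^ (N + n) = ((g' : A) ^ 1) ^ N * (g' : A) ^ n by rw [pow_one, pow_add])
  obtain ⟨r, hr⟩ : ∃ r, N = L g' + r :=
    Nat.exists_eq_add_of_le (Finset.le_sup (f := L) (Finset.mem_univ g'))
  rw [hf, map_mul, map_pow, hr, add_comm, pow_add, mul_assoc, hL, mul_zero]

/-- A closed immersion into `Proj` is isomorphic to the one of the quotient by `vanishIdeal`. -/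
theorem exists_iso_proj_quot :
    ∃ e : Z ≅ Proj (GrQuot.quot 𝒜 (vanishIdeal C i)),
      e.hom ≫ Proj.map (quotHom (vanishIdeal C i)) (irrelevant_le_map _ (quotHom_surjective _)) = i := by
  classical
  let φ := quotHom (𝒜 := 𝒜) (vanishIdeal C i)
  have hφ := irrelevant_le_map φ (quotHom_surjective _)
  let j := Proj.map φ hφ
  have hj : IsClosedImmersion j := isClosedImmersion_map φ hφ (quotHom_surjective _)
  have hker : i.ker = j.ker := by
    refine Scheme.IdealSheafData.ext_of_iSup_eq_top (fun g : C.gens => ⟨U C g, isAffineOpen_U g⟩) ?_ fun g => ?_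
    · refine top_le_iff.mp fun x _ => Opens.mem_iSup.mpr ?_
      obtain ⟨g, hg, hgx⟩ := C.exists_notMem x
      exact ⟨⟨g, hg⟩, hgx⟩
    rw [Scheme.Hom.ker_apply, Scheme.Hom.ker_apply]
    ext c
    rw [RingHom.mem_ker, RingHom.mem_ker]
    obtain ⟨k, a, ha, -, hc⟩ := ProjTwist.exists_frac_regular 𝒜 one_pos (C.deg_one g g.2) c
    have hgk : (g : A) ^ k ∈ 𝒜 (k * 1) := by simpa using pow_mem_deg (C.deg_one g g.2) k
    have hc' : c = regFrac (U C g) a ((g : A) ^ k) ha hgk (notMem_chart C g k) := reg_ext fun x hx =>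
      (hc x hx).trans (rval_regFrac (U C g) a _ ha hgk (notMem_chart C g k) x hx).symm
    have hcf : c = frac C g k ⟨a, by simpa using ha⟩ := reg_ext fun x hx =>
      (hc x hx).trans (rval_frac C g (⟨a, by simpa using ha⟩ : 𝒜 k) x hx).symm
    constructor
    · intro h
      obtain ⟨N, hN⟩ := exists_pow_mul_mem_of_app_eq_zero C i g ⟨a, by simpa using ha⟩ (hcf ▸ h)
      subst hc'
      exact (map_app_regFrac_eq_zero_iff φ hφ one_pos (C.deg_one g g.2) a ha hgk).mpr
        ⟨N, Ideal.Quotient.eq_zero_iff_mem.mpr hN⟩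
    · intro h
      obtain ⟨N, hN⟩ := (map_app_regFrac_eq_zero_iff φ hφ one_pos (C.deg_one g g.2) a ha hgk).mp (hc' ▸ h)
      have hmem : (g : A) ^ N * a ∈ 𝒜 (N + k) :=
        SetLike.mul_mem_graded (pow_mem_deg (C.deg_one g g.2) N) (by simpa using ha)
      have h0 := (mem_vanishIdeal_of_mem C i hmem).mp (Ideal.Quotient.eq_zero_iff_mem.mp hN) g
      refine Eq.trans (congrArg _ (hcf.trans ?_)) h0
      refine reg_ext fun x hx => ?_
      rw [rval_frac, rval_frac, Localization.mk_eq_mk_iff, Localization.r_iff_exists]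
      exact ⟨1, by simp only [OneMemClass.coe_one, pow_add]; ring⟩
  have := IsClosedImmersion.isIso_lift j i hker.symm
  exact ⟨asIso (IsClosedImmersion.lift j i hker.symm.le), IsClosedImmersion.lift_fac _ _ _⟩

end Groth.Agent.ProjQuot
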