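import Groth.Agent.ProjQuot.Range

/-!
# `Proj` only depends on the positive degrees
-/

set_option autoImplicit false
universe u
open CategoryTheory AlgebraicGeometry Opposite TopologicalSpace DirectSum Graded

namespace Groth.Agent.ProjQuot

open Groth.Agent.ProjGamma

set_option synthInstance.maxHeartbeats 400000

variable {R A B : Type u} [CommRing R] [CommRing A] [Algebra R A] {𝒜 : ℕ → Submodule R A} [GradedAlgebra 𝒜]
  [CommRing B] [Algebra R B] {ℬ : ℕ → Submodule R B} [GradedAlgebra ℬ] (φ : 𝒜 →+*ᵍ ℬ)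
  (hφ : HomogeneousIdeal.irrelevant ℬ ≤ (HomogeneousIdeal.irrelevant 𝒜).map φ)

/-- A graded homomorphism bijective in positive degrees induces an isomorphism. -/
theorem isIso_map_of_bijOn (hbij : ∀ n, 0 < n → Set.BijOn φ (𝒜 n) (ℬ n)) : IsIso (Proj.map φ hφ) := by
  have hci : IsClosedImmersion (Proj.map φ hφ) := isClosedImmersion_map' φ hφ fun n hn b hb => by
    obtain ⟨a, ha, hab⟩ := (hbij n hn).surjOn hb
    exact ⟨a, ha, hab⟩
  rw [IsClosedImmersion.isIso_iff_ker_eq_bot]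
  let ι := Σ' (d : ℕ) (g : A), 0 < d ∧ g ∈ 𝒜 d
  refine Scheme.IdealSheafData.ext_of_iSup_eq_top
    (fun i : ι => ⟨Proj.basicOpen 𝒜 i.2.1, Proj.isAffineOpen_basicOpen 𝒜 _ i.2.2.2 i.2.2.1⟩) ?_ ?_
  · refine Proj.iSup_basicOpen_eq_top 𝒜 _ ((HomogeneousIdeal.toIdeal_irrelevant_le _).mpr fun n hn x hx => ?_)
    exact Ideal.subset_span ⟨⟨n, x, hn, hx⟩, rfl⟩
  rintro ⟨d, g, hd, hg⟩
  rw [Scheme.Hom.ker_apply, Scheme.IdealSheafData.ideal_bot, Pi.bot_apply, eq_bot_iff]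
  intro c hc
  rw [RingHom.mem_ker] at hc
  obtain ⟨k, a, ha, -, hca⟩ := ProjTwist.exists_frac_regular 𝒜 hd hg c
  have hgk : g ^ k ∈ 𝒜 (k * d) := by simpa [smul_eq_mul] using SetLike.pow_mem_graded k hg
  obtain rfl : c = regFrac (Proj.basicOpen 𝒜 g) a (g ^ k) ha hgk (fun x => notMem_pow x.2 k) :=
    reg_ext fun x hx => (hca x hx).trans (rval_regFrac (Proj.basicOpen 𝒜 g) a (g ^ k) ha hgk (fun x => notMem_pow x.2 k) x hx).symm
  obtain ⟨N, hN⟩ := (map_app_regFrac_eq_zero_iff φ hφ hd hg a ha hgk).mp hc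
  have h0 : g ^ (N + 1) * a = 0 := by
    refine (hbij ((N + 1) * d + k * d) (by positivity)).injOn
      (SetLike.mul_mem_graded (by simpa [smul_eq_mul] using SetLike.pow_mem_graded (N + 1) hg) ha)
      (zero_mem _) ?_
    rw [map_zero, pow_succ, mul_comm (g ^ N) g, mul_assoc, map_mul, hN, mul_zero]
  refine Ideal.mem_bot.mpr (reg_ext fun x hx => (rval_regFrac _ _ _ _ _ _ x hx).trans ?_)
  refine Eq.trans ?_ HomogeneousLocalization.val_zero.symm
  rw [← Localization.mk_zero 1, Localization.mk_eq_mk_iff, Localization.r_iff_exists]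
  exact ⟨⟨g ^ (N + 1), notMem_pow hx _⟩, by simpa using h0⟩

end Groth.Agent.ProjQuot
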