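import Groth.Agent.ProjQuot.Closed
import Groth.Agent.ProjQuot.Iso
import Groth.Prelude.Def_GrTwist
import Groth.Prelude.Def_ProjUP

/-!
# A closed subscheme of `Proj` is cut out by the forms vanishing on it
-/

set_option autoImplicit false
universe u
open CategoryTheory AlgebraicGeometry Opposite TopologicalSpace DirectSum

namespace Groth.Agent.ProjQuot

open Groth.Agent.ProjGamma

set_option synthInstance.maxHeartbeats 400000
set_option maxHeartbeats 1600000

section general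

variable {X Y Z : Scheme.{u}}

/-- Vanishing of the inverse image kills every map to a direct image along an isomorphic morphism. -/
theorem app_eq_zero_of_pullSec_eq_zero {L : Y.Modules} {N : X.Modules} (i : Z ⟶ Y) (j : X ⟶ Y) (e : Z ≅ X)
    (he : e.hom ≫ j = i) (α : L ⟶ (Scheme.Modules.pushforward j).obj N) (s : ProjUP.Γm L)
    (hs : ProjUP.pullSec i L s = 0) : α.app ⊤ s = 0 := by
  have h : j = e.inv ≫ i := by rw [← he, Iso.inv_hom_id_assoc]
  let β : L ⟶ (Scheme.Modules.pushforward i).obj ((Scheme.Modules.pushforward e.inv).obj N) :=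
    α ≫ (Scheme.Modules.pushforwardCongr h).hom.app N ≫ (Scheme.Modules.pushforwardComp e.inv i).inv.app N
  let f := ((Scheme.Modules.pullbackPushforwardAdjunction i).homEquiv _ _).symm β
  have hβ : β = (Scheme.Modules.pullbackPushforwardAdjunction i).unit.app L ≫
      (Scheme.Modules.pushforward i).map f := by
    exact (((Scheme.Modules.pullbackPushforwardAdjunction i).homEquiv _ _).apply_symm_apply β).symm.trans
      (Adjunction.homEquiv_unit _ _ _ _)
  have h0 : β.app ⊤ s = 0 := by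
    rw [hβ]
    show ((Scheme.Modules.pushforward i).map f).app ⊤
      (((Scheme.Modules.pullbackPushforwardAdjunction i).unit.app L).app ⊤ s) = 0
    rw [show ((Scheme.Modules.pullbackPushforwardAdjunction i).unit.app L).app ⊤ s = 0 from hs]
    exact map_zero _
  refine (ConcreteCategory.bijective_of_isIso (N.presheaf.map
    (eqToHom (?_ : (Opens.map (e.inv ≫ i).base).obj ⊤ = (Opens.map j.base).obj ⊤)).op)).1 ?_
  · rw [h]
  exact h0.trans (map_zero _).symm

theorem app_eq_zero_of_comp {i : Z ⟶ Y} {j : X ⟶ Y} {e : Z ⟶ X} (he : e ≫ j = i) {W : Y.Opens}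
    {c : Γ(Y, W)} (hc : j.app W c = 0) : i.app W c = 0 := by
  subst he
  show e.app (j ⁻¹ᵁ W) (j.app W c) = 0
  rw [hc, map_zero]

end general

theorem map_congr {R A B : Type u} [CommRing R] [CommRing A] [Algebra R A] {𝒜 : ℕ → Submodule R A}
    [GradedAlgebra 𝒜] [CommRing B] [Algebra R B] {ℬ : ℕ → Submodule R B} [GradedAlgebra ℬ]
    {φ φ' : 𝒜 →+*ᵍ ℬ} (h : φ = φ') (h1 : HomogeneousIdeal.irrelevant ℬ ≤ (HomogeneousIdeal.irrelevant 𝒜).map φ)
    (h2 : HomogeneousIdeal.irrelevant ℬ ≤ (HomogeneousIdeal.irrelevant 𝒜).map φ') :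
    Proj.map φ h1 = Proj.map φ' h2 := by subst h; rfl

variable {R A : Type u} [CommRing R] [CommRing A] [Algebra R A] {𝒜 : ℕ → Submodule R A} [GradedAlgebra 𝒜]
variable (C : Cover 𝒜) {Z : Scheme.{u}} (i : Z ⟶ Proj 𝒜) [IsClosedImmersion i]

/-- The homogeneous elements of `vanishIdeal` are those whose sections of `O(d)` vanish on `Z`. -/
theorem mem_vanishIdeal_iff_pullSec {d : ℕ} (F : 𝒜 d) :
    F.1 ∈ vanishIdeal C i ↔
      ProjUP.pullSec i (Twist.twist 𝒜 (d : ℤ)) (Twist.globalOf 𝒜 F) = 0 := by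
  rw [mem_vanishIdeal_of_mem C i F.2]
  constructor
  · intro h
    let η := (Scheme.Modules.pullbackPushforwardAdjunction i).unit.app (Twist.twist 𝒜 (d : ℤ))
    let N := (Scheme.Modules.pullback i).obj (Twist.twist 𝒜 (d : ℤ))
    show η.app ⊤ (Twist.globalOf 𝒜 F) = 0
    refine TopCat.Sheaf.eq_of_locally_eq' (⟨N.presheaf, Scheme.Modules.isSheaf N⟩ : TopCat.Sheaf Ab Z) (fun g : C.gens => i ⁻¹ᵁ U C g)
      (i ⁻¹ᵁ ⊤) (fun g => homOfLE le_top) ?_ _ _ fun g => ?_
    · intro z _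
      obtain ⟨g, hg, hgz⟩ := C.exists_notMem (i.base z : ProjectiveSpectrum 𝒜)
      exact Opens.mem_iSup.mpr ⟨⟨g, hg⟩, hgz⟩
    let ℓ : Γ(Twist.twist 𝒜 (d : ℤ), U C g) :=
      Twist.resN (d : ℤ) (homOfLE le_top).op (Twist.globalOf 𝒜 ⟨_, pow_mem_deg (C.deg_one g g.2) d⟩)
    have hres : (Twist.twist 𝒜 (d : ℤ)).presheaf.map (homOfLE (le_top : U C g ≤ ⊤)).op (Twist.globalOf 𝒜 F) =
        frac C g d F • ℓ := by
      refine ProjTwist.sectN_ext fun y => Eq.symm ((ProjTwist.smulT_val (U := U C g) _ _ y).trans ?_)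
      refine (congrArg (· * _) (rval_frac C g F y.1 y.2)).trans ?_
      refine (Localization.mk_mul _ _ _ _).trans ?_
      refine (Localization.mk_eq_mk_iff.mpr ?_)
      rw [Localization.r_iff_exists]
      exact ⟨1, by simp [mul_comm]⟩
    have hnat := ConcreteCategory.congr_hom (η.mapPresheaf.naturality (homOfLE (le_top : U C g ≤ ⊤)).op)
      (Twist.globalOf 𝒜 F)
    refine hnat.symm.trans (Eq.trans ?_ (map_zero _).symm)
    show η.app (U C g) ((Twist.twist 𝒜 (d : ℤ)).presheaf.map (homOfLE (le_top : U C g ≤ ⊤)).op (Twist.globalOf 𝒜 F)) = 0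
    rw [hres, Scheme.Modules.Hom.app_smul]
    show i.app (U C g) (frac C g d F) • (show Γ(N, i ⁻¹ᵁ U C g) from η.app (U C g) ℓ) = 0
    rw [h g, zero_smul]
  · intro h g
    obtain ⟨e, he⟩ := exists_iso_proj_quot C i
    let φ := quotHom (𝒜 := 𝒜) (vanishIdeal C i)
    let hφ := irrelevant_le_map φ (quotHom_surjective (𝒜 := 𝒜) (vanishIdeal C i))
    let j := Proj.map φ hφ
    have h0 := app_eq_zero_of_pullSec_eq_zero i j e he (GrTwist.comap φ hφ (d : ℤ)) (Twist.globalOf 𝒜 F) h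
    have hj : j.app (U C g) (frac C g d F) = 0 := by
      refine reg_ext fun y hy => (rval_map_app_regFrac φ hφ (W := U C g) F.1 ((g : A) ^ d) F.2
        (pow_mem_deg (C.deg_one g g.2) d) (notMem_chart C g d) y hy).trans ?_
      have h1 := congrArg (fun s : GrTwist.sectN (𝒜 := GrQuot.quot 𝒜 (vanishIdeal C i)) (d : ℤ) (op ⊤) =>
        (s.1 ⟨y, trivial⟩).1) h0
      have h2 : GrTwist.locMap φ hφ y (Localization.mk F.1
          ⟨1, fun h => (ProjectiveSpectrum.comap φ hφ y).isPrime.ne_top ((Ideal.eq_top_iff_one _).mpr h)⟩) = 0 := h1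
      rw [GrTwist.locMap_mk, ← Localization.mk_zero 1, Localization.mk_eq_mk_iff, Localization.r_iff_exists] at h2
      refine Eq.trans ?_ HomogeneousLocalization.val_zero.symm
      rw [← Localization.mk_zero 1, Localization.mk_eq_mk_iff, Localization.r_iff_exists]
      obtain ⟨u, hu⟩ := h2
      exact ⟨u, by simpa using hu⟩
    exact app_eq_zero_of_comp he hj

include C in
/-- A closed subscheme of `Proj` is the `Proj` of any quotient by exactly the forms vanishing on it. -/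
theorem exists_iso_of_kernel {B : Type u} [CommRing B] [Algebra R B] (ℬ : ℕ → Submodule R B) [GradedAlgebra ℬ]
    (φ : 𝒜 →+*ᵍ ℬ) (hφs : Function.Surjective φ)
    (hker : ∀ (d : ℕ) (F : 𝒜 d), φ F.1 = 0 ↔
      ProjUP.pullSec i (Twist.twist 𝒜 (d : ℤ)) (Twist.globalOf 𝒜 F) = 0)
    (hφ : HomogeneousIdeal.irrelevant ℬ ≤ (HomogeneousIdeal.irrelevant 𝒜).map φ) :
    ∃ e : Z ≅ Proj ℬ, e.hom ≫ Proj.map φ hφ = i := by
  classical
  have hJ : ∀ a ∈ vanishIdeal C i, φ a = 0 := by
    intro a ha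
    rw [← DirectSum.sum_support_decompose 𝒜 a, map_sum]
    refine Finset.sum_eq_zero fun n _ => (hker n _).mpr ?_
    exact (mem_vanishIdeal_iff_pullSec C i _).mp ((isHomog_vanishIdeal C i).mem_of_mem n ha)
  let ψr := Ideal.Quotient.lift (vanishIdeal C i) φ.toRingHom hJ
  let ψ : GrQuot.quot 𝒜 (vanishIdeal C i) →+*ᵍ ℬ :=
    { toRingHom := ψr
      map_mem := by
        intro n x hx
        obtain ⟨a, ha, rfl⟩ := (GrQuot.mem_quot_iff 𝒜 _ n x).mp hx
        exact Graded.map_mem φ ha }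
  have hψs : Function.Surjective ψ := fun b => by
    obtain ⟨a, rfl⟩ := hφs b
    exact ⟨Ideal.Quotient.mk _ a, rfl⟩
  have hψ := irrelevant_le_map ψ hψs
  have hiso : IsIso (Proj.map ψ hψ) := by
    refine isIso_map_of_bijOn ψ hψ fun n _ => ⟨fun x hx => Graded.map_mem ψ hx, ?_,
      fun b hb => exists_mem_of_surjective ψ hψs hb⟩
    intro x hx y hy hxy
    obtain ⟨a, ha, rfl⟩ := (GrQuot.mem_quot_iff 𝒜 _ n x).mp hx
    obtain ⟨b, hb, rfl⟩ := (GrQuot.mem_quot_iff 𝒜 _ n y).mp hy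
    rw [Ideal.Quotient.eq]
    exact (mem_vanishIdeal_iff_pullSec C i ⟨a - b, sub_mem ha hb⟩).mpr
      ((hker n ⟨a - b, sub_mem ha hb⟩).mp (by rw [map_sub, sub_eq_zero]; exact hxy))
  let q := quotHom (𝒜 := 𝒜) (vanishIdeal C i)
  have hcomp : ψ.comp q = φ := GradedRingHom.ext fun a => rfl
  have hq := irrelevant_le_map q (quotHom_surjective (𝒜 := 𝒜) (vanishIdeal C i))
  have hmap : Proj.map φ hφ = Proj.map ψ hψ ≫ Proj.map q hq :=
    (map_congr hcomp.symm hφ (hcomp ▸ hφ)).trans (Proj.map_comp q ψ hq hψ)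
  obtain ⟨e, he⟩ := exists_iso_proj_quot C i
  refine ⟨e ≪≫ (asIso (Proj.map ψ hψ)).symm, ?_⟩
  rw [hmap, Iso.trans_hom, Iso.symm_hom, asIso_inv, Category.assoc, IsIso.inv_hom_id_assoc]
  exact he

end Groth.Agent.ProjQuot
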